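import Groth.Prelude.Def_ConstGrp
import Groth.Prelude.Def_GLin

set_option autoImplicit false
universe u v

open TensorProduct

namespace ConstActA

variable (R : Type u) [CommRing R] (B : Type v) [CommRing B] [Algebra R B]
variable {Γ : Type u}

/-- `B ⊗ Fun(Γ) → B`, evaluation at `g`. -/
noncomputable def proj (g : Γ) : B ⊗[R] ConstGrp.F R Γ →ₐ[R] B :=
  (Algebra.TensorProduct.rid R R B).toAlgHom.comp
    (Algebra.TensorProduct.map (AlgHom.id R B) (ConstGrp.ev R g))

variable {R B}

@[simp] theorem proj_tmul (g : Γ) (b : B) (f : ConstGrp.F R Γ) :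
    proj R B g (b ⊗ₜ[R] f) = f g • b := by
  simp [proj]

theorem proj_tmul_e [DecidableEq Γ] (g h : Γ) (b : B) :
    proj R B g (b ⊗ₜ[R] ConstGrp.e R h) = if g = h then b else 0 := by
  rw [proj_tmul, ConstGrp.e_apply, ite_smul, one_smul, zero_smul]

theorem proj_sum_tmul_e [Fintype Γ] [DecidableEq Γ] (c : Γ → B) (g : Γ) :
    proj R B g (∑ h, c h ⊗ₜ[R] ConstGrp.e R h) = c g := by
  rw [map_sum, Finset.sum_eq_single g]
  · rw [proj_tmul_e, if_pos rfl]
  · intro h _ hne
    rw [proj_tmul_e, if_neg (Ne.symm hne)]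
  · intro hg; exact absurd (Finset.mem_univ g) hg

theorem eq_sum_proj [Fintype Γ] [DecidableEq Γ] (x : B ⊗[R] ConstGrp.F R Γ) :
    x = ∑ g, proj R B g x ⊗ₜ[R] ConstGrp.e R g := by
  induction x using TensorProduct.induction_on with
  | zero => simp
  | tmul b f =>
    conv_lhs => rw [ConstGrp.eq_sum_smul_e f, TensorProduct.tmul_sum]
    refine Finset.sum_congr rfl fun g _ => ?_
    rw [proj_tmul, TensorProduct.smul_tmul]
  | add x y hx hy =>
    simp only [map_add, TensorProduct.add_tmul, Finset.sum_add_distrib]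
    rw [← hx, ← hy]

theorem ext_proj [Fintype Γ] [DecidableEq Γ] {x y : B ⊗[R] ConstGrp.F R Γ}
    (h : ∀ g, proj R B g x = proj R B g y) : x = y := by
  rw [eq_sum_proj x, eq_sum_proj y]
  simp only [h]

end ConstActA
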